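import Cfsg.Agent.H20.HallHigmanHall

/-! The prime-order operator lemma, allowing the Fermat exception when the operator group is
abelian on the module. Adapted from `Cfsg.Agent.H20.HallHigmanHall`. -/

set_option autoImplicit false
open scoped Pointwise commutatorElement IsMulCommutative

namespace Cfsg.Agent.H90.PQ

open Cfsg.Agent.H20 Cfsg.Agent.H20.HH

variable {G : Type*} [Group G] [Finite G]

/-- The `q`-group case: `[R, Q]` centralises `V`. -/
theorem commutator_le_centralizer_of_no_exception {ℓ q r : ℕ} (hℓ : ℓ.Prime) (hq : q.Prime)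
    (hr : r.Prime) (hℓq : ℓ ≠ q) (hℓr : ℓ ≠ r) (hqr : q ≠ r) {R Q V : Subgroup G}
    (hR : Nat.card R = r) (hQ : IsPGroup q Q) (hRQ : R ≤ Subgroup.normalizer (Q : Set G))
    (hV : Cfsg.IsElementaryAbelian ℓ V) (hRV : R ≤ Subgroup.normalizer (V : Set G))
    (hQV : Q ≤ Subgroup.normalizer (V : Set G))
    (hCV : V ⊓ Subgroup.centralizer (R : Set G) = ⊥)
    (hexc : q = 2 → (∃ n : ℕ, r = 2 ^ n + 1) →
      ∀ u ∈ Q, ∀ u' ∈ Q, ⁅u, u'⁆ ∈ Subgroup.centralizer (V : Set G)) :
    ⁅R, Q⁆ ≤ Subgroup.centralizer (V : Set G) := by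
  haveI := Fact.mk hq
  rcases eq_or_ne V ⊥ with rfl | hV0
  · intro g _
    exact Subgroup.mem_centralizer_iff.mpr fun v hv => by simp [Subgroup.mem_bot.mp hv]
  haveI := hV.1
  let H := V ⋊[MonoidHom.id (MulAut V)] MulAut V
  haveI : Finite (MulAut V) := Finite.of_injective (fun e : MulAut V => (e : V → V))
    DFunLike.coe_injective
  haveI : Finite H := External.finite_semidirect (MonoidHom.id (MulAut V))
  set N := Subgroup.normalizer (V : Set G)
  let ψ : N →* H := SemidirectProduct.inr.comp V.normalizerMonoidHom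
  have hψconj : ∀ (n : N) (v : V), ψ n * SemidirectProduct.inl v * (ψ n)⁻¹ =
      SemidirectProduct.inl (V.normalizerMonoidHom n v) :=
    fun n v => External.conj_inl (MonoidHom.id (MulAut V)) (V.normalizerMonoidHom n) v
  set X' := (R.subgroupOf N).map ψ with hX'
  set Q' := (Q.subgroupOf N).map ψ with hQ'
  set V' := (SemidirectProduct.inl : V →* H).range with hV'
  have hfaith : ∀ n : N, ψ n ∈ Subgroup.centralizer (V' : Set H) → ψ n = 1 := by
    intro n hn
    have hone : V.normalizerMonoidHom n = 1 := MulEquiv.ext fun v =>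
      SemidirectProduct.inl_injective (φ := MonoidHom.id (MulAut V)) (by
        rw [← hψconj, ← Subgroup.mem_centralizer_iff.mp hn _ ⟨v, rfl⟩, mul_inv_cancel_right]; rfl)
    change SemidirectProduct.inr (V.normalizerMonoidHom n) = (1 : H)
    rw [hone, map_one]
  have hXnorm : ∀ L : Subgroup G, L ≤ N →
      (L.subgroupOf N).map ψ ≤ Subgroup.normalizer (V' : Set H) := by
    intro L _
    rw [Subgroup.le_normalizer_iff]
    rintro _ ⟨n, -, rfl⟩ _ ⟨v, rfl⟩
    exact ⟨_, (hψconj n v).symm⟩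
  have hXQ : X' ≤ Subgroup.normalizer (Q' : Set H) := by
    rw [Subgroup.le_normalizer_iff]
    rintro _ ⟨s, hs, rfl⟩ _ ⟨u, hu, rfl⟩
    exact ⟨s * u * s⁻¹, conj_mem_of_le_normalizer hRQ hs hu, by simp⟩
  have hkey : X' ≤ Subgroup.centralizer (Q' : Set H) →
      ⁅R, Q⁆ ≤ Subgroup.centralizer (V : Set G) := by
    intro hle
    rw [Subgroup.commutator_le]
    intro s hs u hu
    rw [Subgroup.mem_centralizer_iff]
    intro v hv
    set sN : N := ⟨s, hRV hs⟩
    set uN : N := ⟨u, hQV hu⟩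
    have h1 : ψ ⁅sN, uN⁆ = 1 := by
      rw [map_commutatorElement, commutatorElement_eq_one_iff_mul_comm]
      exact (Subgroup.mem_centralizer_iff.mp
        (hle (Subgroup.mem_map_of_mem ψ (show sN ∈ R.subgroupOf N from hs))) _
        (Subgroup.mem_map_of_mem ψ (show uN ∈ Q.subgroupOf N from hu))).symm
    have h2 : V.normalizerMonoidHom ⁅sN, uN⁆ = 1 :=
      SemidirectProduct.inr_injective (φ := MonoidHom.id (MulAut V)) (h1.trans (map_one _).symm)
    have h3 := congrArg (fun e : MulAut V => ((e ⟨v, hv⟩ : V) : G)) h2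
    change ((⁅sN, uN⁆ : N) : G) * v * ((⁅sN, uN⁆ : N) : G)⁻¹ = v at h3
    have h5 : ((⁅sN, uN⁆ : N) : G) = ⁅s, u⁆ := by simp [commutatorElement_def, sN, uN]
    have h4 : ⁅s, u⁆ * v * ⁅s, u⁆⁻¹ = v := h5 ▸ h3
    exact (mul_inv_eq_iff_eq_mul.mp h4).symm
  by_contra hcon
  have hX'r : Nat.card X' = r := by
    refine ((Nat.dvd_prime hr).mp ?_).resolve_left fun h => hV0 ?_
    · rw [← hR, ← Nat.card_congr (Subgroup.subgroupOfEquivOfLe hRV).toEquiv]
      exact Subgroup.card_map_dvd _ ψ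
    · rw [← hCV, left_eq_inf]
      intro v hv
      rw [Subgroup.mem_centralizer_iff]
      intro s hs
      have h1 : ψ ⟨s, hRV hs⟩ = 1 :=
        Subgroup.mem_bot.mp ((Subgroup.card_eq_one.mp h).le
          (Subgroup.mem_map_of_mem ψ (show (⟨s, hRV hs⟩ : N) ∈ R.subgroupOf N from hs)))
      have h2 : V.normalizerMonoidHom ⟨s, hRV hs⟩ = 1 :=
        SemidirectProduct.inr_injective (φ := MonoidHom.id (MulAut V)) (h1.trans (map_one _).symm)
      have h3 := congrArg (fun e : MulAut V => ((e ⟨v, hv⟩ : V) : G)) h2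
      exact mul_inv_eq_iff_eq_mul.mp h3
  have hXfaith : X' ⊓ Subgroup.centralizer (Q' : Set H) = ⊥ := by
    rcases (Nat.dvd_prime hr).mp (hX'r ▸ Subgroup.card_dvd_of_le
      (inf_le_left : X' ⊓ Subgroup.centralizer (Q' : Set H) ≤ X')) with h | h
    · exact Subgroup.card_eq_one.mp h
    · refine absurd (hkey (inf_eq_left.mp
        (Subgroup.eq_of_le_of_card_ge inf_le_left (by rw [h, hX'r])))) hcon
  have hV'el : Cfsg.IsElementaryAbelian ℓ V' := by
    refine ⟨IsMulCommutative.of_comm ?_, ?_⟩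
    · rintro ⟨_, v, rfl⟩ ⟨_, w, rfl⟩
      exact Subtype.ext (by simp only [Subgroup.coe_mul, ← map_mul, mul_comm' v w])
    · rintro _ ⟨v, rfl⟩
      rw [← map_pow, show v ^ ℓ = 1 from Subtype.ext (by simpa using hV.2 v v.2), map_one]
  have hQ'p : IsPGroup q Q' :=
    ((hQ.comap_of_injective N.subtype N.subtype_injective).map ψ)
  refine fixed_ne_bot_of_q_group hℓ hq hr hℓq hℓr hqr hX'r hQ'p hXQ hXfaith hV'el
    (hXnorm R hRV) (hXnorm Q hQV) ?_ ?_ ?_
  · rw [eq_bot_iff]
    rintro _ ⟨⟨u, -, rfl⟩, hu⟩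
    exact Subgroup.mem_bot.mpr (hfaith u hu)
  · intro h2 hn
    refine IsMulCommutative.of_comm ?_
    rintro ⟨_, u, hu, rfl⟩ ⟨_, u', hu', rfl⟩
    refine Subtype.ext ?_
    change ψ u * ψ u' = ψ u' * ψ u
    rw [← commutatorElement_eq_one_iff_mul_comm, ← map_commutatorElement]
    refine hfaith _ (Subgroup.mem_centralizer_iff.mpr ?_)
    rintro _ ⟨v, rfl⟩
    have h1 : V.normalizerMonoidHom ⁅u, u'⁆ v = v := Subtype.ext (by
      have h2 := Subgroup.mem_centralizer_iff.mp (hexc h2 hn _ hu _ hu') v v.2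
      change ((⁅u, u'⁆ : N) : G) * v * ((⁅u, u'⁆ : N) : G)⁻¹ = v
      simp only [Subgroup.coe_subtype] at h2
      rw [show ((⁅u, u'⁆ : N) : G) = ⁅(u : G), (u' : G)⁆ by simp [commutatorElement_def], ← h2,
        mul_inv_cancel_right])
    have h3 := hψconj ⁅u, u'⁆ v
    rw [h1] at h3
    exact (mul_inv_eq_iff_eq_mul.mp h3).symm
  · rw [eq_bot_iff]
    rintro _ ⟨⟨v, rfl⟩, hv⟩
    have hv1 : (v : G) ∈ V ⊓ Subgroup.centralizer (R : Set G) := by
      refine Subgroup.mem_inf.mpr ⟨v.2, Subgroup.mem_centralizer_iff.mpr fun s hs => ?_⟩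
      have h1 : SemidirectProduct.inl (φ := MonoidHom.id (MulAut V))
          (V.normalizerMonoidHom ⟨s, hRV hs⟩ v) = SemidirectProduct.inl v := by
        rw [← hψconj, Subgroup.mem_centralizer_iff.mp hv (ψ ⟨s, hRV hs⟩)
          (Subgroup.mem_map_of_mem ψ (show (⟨s, hRV hs⟩ : N) ∈ R.subgroupOf N from hs)),
          mul_inv_cancel_right]
      exact mul_inv_eq_iff_eq_mul.mp
        (congrArg Subtype.val (SemidirectProduct.inl_injective h1))
    rw [hCV, Subgroup.mem_bot] at hv1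
    have : v = 1 := Subtype.ext hv1
    rw [this, map_one]
    exact one_mem _

end Cfsg.Agent.H90.PQ
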